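import Cfsg.Agent.H883.BR.Fam
import Cfsg.Agent.H886.BR.Cls

/-!
# HUB BR, task D5: from a family to `Row` (helper177)

* `row_of_fam_aux` : `row_of_fam` with the inputs B2, C8, D1 + D2, D4 as hypotheses.
-/

set_option autoImplicit false
set_option linter.style.haveILetI false

namespace Cfsg.Agent.H177.BR

open Cfsg.Agent.H883.BR

universe u v w

section gen

variable {K : Type u} {V : Type v} {G : Type w} [Field K] [AddCommGroup V] [Module K V] [Group G]

/-- monotonicity of the degree -/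
theorem polyDeg_mono {ρ : G →* Module.End K V} {F : Subfield K} {ι : Type*} {x : ι → F → G} {e e' : ℕ}
    (h : PolyDeg ρ F x e) (he : e ≤ e') : PolyDeg ρ F x e' := by
  intro i
  obtain ⟨c, hc⟩ := h i
  refine ⟨fun j => if j < e + 1 then c j else 0, fun t => ?_⟩
  rw [hc t]
  have h1 : Finset.range (e + 1) ⊆ Finset.range (e' + 1) := Finset.range_subset_range.2 (by omega)
  rw [← Finset.sum_subset h1 (f := fun j => (t : K) ^ j • (if j < e + 1 then c j else 0))]
  · refine Finset.sum_congr rfl fun j hj => ?_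
    rw [if_pos (Finset.mem_range.1 hj)]
  · intro j _ hj
    rw [if_neg (fun h => hj (Finset.mem_range.2 h)), smul_zero]

theorem map_mul_inv' (τ : G →* Module.End K V) (g : G) : τ g * τ g⁻¹ = 1 := by
  rw [← map_mul, mul_inv_cancel, map_one]

theorem map_inv_mul' (τ : G →* Module.End K V) (g : G) : τ g⁻¹ * τ g = 1 := by
  rw [← map_mul, inv_mul_cancel, map_one]

/-- scalars act trivially in `ad` -/
theorem ad_eq_one_of_scalar {τ : G →* Module.End K V} {g : G} {c : K} (h : τ g = c • 1) : ad τ g = 1 := by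
  refine LinearMap.ext fun X => ?_
  have h1 := map_mul_inv' τ g
  rw [h, smul_mul_assoc, one_mul] at h1
  rw [ad_apply, h, smul_mul_assoc, one_mul, smul_mul_assoc, ← mul_smul_comm, h1, mul_one]
  rfl

/-- `ad τ g = 1` : `τ g` commutes with everything -/
theorem comm_of_ad_eq_one {τ : G →* Module.End K V} {g : G} (h : ad τ g = 1) (X : Module.End K V) :
    τ g * X = X * τ g := by
  have h1 : τ g * X * τ g⁻¹ = X := by
    rw [← ad_apply, h]
    rfl
  calc τ g * X = τ g * X * (τ g⁻¹ * τ g) := by rw [map_inv_mul', mul_one]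
    _ = τ g * X * τ g⁻¹ * τ g := by rw [← mul_assoc]
    _ = X * τ g := by rw [h1]

/-- an endomorphism commuting with everything is a scalar -/
theorem scalar_of_comm {A : Module.End K V} (h : ∀ X : Module.End K V, A * X = X * A) : ∃ c : K, A = c • 1 := by
  have h1 : A ∈ Set.center (Module.End K V) := Semigroup.mem_center_iff.2 fun X => (h X).symm
  obtain ⟨c, _, hc⟩ := Module.End.mem_center_iff.1 h1
  refine ⟨c, ?_⟩
  rw [hc]
  rfl

theorem scalar_of_ad_eq_one {τ : G →* Module.End K V} {g : G} (h : ad τ g = 1) : ∃ c : K, τ g = c • 1 :=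
  scalar_of_comm (comm_of_ad_eq_one h)

/-- `ad (ad ρ)` has the same kernel as `ad ρ` -/
theorem ad_eq_one_of_ad_ad [Nontrivial V] {τ : G →* Module.End K V} {g : G} (h : ad (ad τ) g = 1) : ad τ g = 1 := by
  obtain ⟨c, hc⟩ := scalar_of_ad_eq_one h
  have h1 : ad τ g 1 = 1 := by rw [ad_apply, mul_one, map_mul_inv']
  have h2 : ad τ g 1 = c • 1 := by
    rw [hc]
    rfl
  have h3 : c = 1 := by
    by_contra hne
    have h4 : (c - 1) • (1 : Module.End K V) = 0 := by rw [sub_smul, one_smul, ← h2, h1, sub_self]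
    rcases smul_eq_zero.1 h4 with h5 | h5
    · exact hne (sub_eq_zero.1 h5)
    · exact one_ne_zero h5
  rw [hc, h3, one_smul]

/-- `1` acts trivially -/
theorem ad_ad_eq_one_of_scalar {τ : G →* Module.End K V} {g : G} {c : K} (h : τ g = c • 1) : ad (ad τ) g = 1 :=
  ad_eq_one_of_scalar (c := 1) (by rw [ad_eq_one_of_scalar h, one_smul])

/-- perfect groups have determinant one -/
theorem det_eq_one {W : Type v} [AddCommGroup W] [Module K W] (hG : commutator G = ⊤) (σ : G →* Module.End K W)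
    (g : G) : LinearMap.det (σ g) = 1 := by
  have h1 : commutator G ≤ (((LinearMap.det : Module.End K W →* K).comp σ).toHomUnits).ker :=
    Abelianization.commutator_subset_ker _
  have h2 : g ∈ (((LinearMap.det : Module.End K W →* K).comp σ).toHomUnits).ker := h1 (hG ▸ Subgroup.mem_top g)
  have h3 := congrArg (Units.val) (MonoidHom.mem_ker.1 h2)
  rw [MonoidHom.coe_toHomUnits] at h3
  exact h3

end gen

/-- the centre of `M` has order prime to `p` when it acts by scalars -/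
theorem not_dvd_center {p : ℕ} [hp : Fact p.Prime] {K : Type u} [Field K] [CharP K p] {V : Type v} [AddCommGroup V]
    [Module K V] [Nontrivial V] {M : Type w} [Group M] [Finite M] {τ : M →* Module.End K V}
    (hinj : Function.Injective τ) (hz : ∀ z ∈ Subgroup.center M, ∃ c : K, τ z = c • 1) :
    ¬ p ∣ Nat.card (Subgroup.center M) := by
  intro hd
  obtain ⟨z, hzp⟩ := exists_prime_orderOf_dvd_card' p hd
  obtain ⟨c, hc⟩ := hz z z.2
  have h1 : (z : M) ^ p = 1 := by
    have h2 : z ^ p = 1 := by rw [← hzp, pow_orderOf_eq_one]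
    rw [← Subgroup.coe_pow, h2, Subgroup.coe_one]
  have h2 : (c ^ p) • (1 : Module.End K V) = 1 := by
    have h3 : τ ((z : M) ^ p) = (c ^ p) • 1 := by rw [map_pow, hc, smul_pow, one_pow]
    rw [← h3, h1, map_one]
  have h3 : c ^ p = 1 := by
    by_contra hne
    have h4 : (c ^ p - 1) • (1 : Module.End K V) = 0 := by rw [sub_smul, one_smul, h2, sub_self]
    rcases smul_eq_zero.1 h4 with h5 | h5
    · exact hne (sub_eq_zero.1 h5)
    · exact one_ne_zero h5
  have h4 : c = 1 := by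
    have h5 : (c - 1) ^ p = 0 := by rw [sub_pow_char, h3, one_pow, sub_self]
    exact sub_eq_zero.1 (pow_eq_zero_iff hp.out.ne_zero |>.1 h5)
  have h5 : (z : M) = 1 := hinj (by rw [hc, h4, one_smul, map_one])
  have h6 : z = 1 := Subtype.ext h5
  rw [h6, orderOf_one] at hzp
  exact hp.out.one_lt.ne hzp

set_option maxHeartbeats 2000000 in
/-- **D5** with its inputs as hypotheses -/
theorem row_of_fam_aux (n : ℕ)
    (str : ∃ B : ℕ, ∀ (p : ℕ) (_ : p.Prime) (K : Type u) [Field K] [CharP K p] [IsAlgClosed K]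
      (_ : ∀ S : Set K, S.Finite → ∃ E : Subfield K, Finite E ∧ S ⊆ E)
      (G : Type w) [Group G] [Finite G] (V : Type u) [AddCommGroup V] [Module K V] [FiniteDimensional K V]
      (ρ : G →* Module.End K V), Module.finrank K V = n → 2 ≤ n → Function.Injective ρ → QS G → Irr ρ ⊤ → TPrim ρ →
      ∀ H : Subgroup G, Dns (ad (ad ρ)) H → ∀ y ∈ H, (∀ k, 0 < k → k ≤ B → ¬ ∃ c : K, ρ (y ^ k) = c • 1) →
      ∃ M : Subgroup G, M ≤ H ∧ (∀ h ∈ H, ∀ m ∈ M, h * m * h⁻¹ ∈ M) ∧ Dns (ad ρ) M ∧ Irr ρ M ∧ commutator M = ⊤ ∧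
        IsSimpleGroup (M ⧸ Subgroup.center M) ∧ ¬ IsMulCommutative (M ⧸ Subgroup.center M) ∧
        Cfsg.IsLieTypeChar p (M ⧸ Subgroup.center M) ∧ ∀ z : M, z ∈ Subgroup.center M ↔ ∃ c : K, ρ z = c • 1)
    (crg : ∀ (p : ℕ) [Fact p.Prime] (M : Type w) [Group M] [Finite M], commutator M = ⊤ →
      ¬ p ∣ Nat.card (Subgroup.center M) → IsSimpleGroup (M ⧸ Subgroup.center M) →
      Cfsg.IsLieTypeChar p (M ⧸ Subgroup.center M) → ∃ U : Subgroup M, CRG.{u, u, w} p U)
    (card_of_root : ∀ (K : Type u) [Field K] (F : Subfield K) [Finite F] (G : Type w) [Group G] [Finite G]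
      (V : Type u) [AddCommGroup V] [Module K V] [FiniteDimensional K V] (ρ : G →* Module.End K V)
      (H M : Subgroup G), (∀ h ∈ H, ∀ m ∈ M, h * m * h⁻¹ ∈ M) → Dns (ad ρ) H → ∀ a : Module.End K V,
      (∀ t ∈ F, ∃ m ∈ M, ρ m = 1 + t • a) → ∀ d : ℕ,
      (∀ S : Submodule K (Module.End K V), Inv (ad ρ) ⊤ S → a ∈ S → d ≤ Module.finrank K S) →
      Nat.choose (Nat.card F - 1 + d) d ≤ Nat.card M)
    (root_full : ∀ (p : ℕ) [Fact p.Prime] (K : Type u) [Field K] [CharP K p] [IsAlgClosed K]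
      (_ : ∀ S : Set K, S.Finite → ∃ E : Subfield K, Finite E ∧ S ⊆ E) (F : Subfield K) [Finite F] (G : Type w)
      [Group G] [Finite G] (V : Type u) [AddCommGroup V] [Module K V] (ρ : G →* Module.End K V)
      (W : Type u) [AddCommGroup W] [Module K W] [FiniteDimensional K W] (σ : G →* Module.End K W)
      (H M : Subgroup G) (_ : M ≤ H) (_ : ∀ h ∈ H, ∀ m ∈ M, h * m * h⁻¹ ∈ M) (U : Subgroup M)
      (_ : CRG.{u, u, w} p U) (_ : Irr σ M) (_ : ∀ z : M, z ∈ Subgroup.center M → σ z = 1) (w : W) (_ : w ≠ 0)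
      (_ : ∀ u ∈ U, σ (u : G) w = w) (_ : ∀ h ∈ H, LinearMap.det (σ h) = 1) (a : Module.End K V) (_ : a * a = 0)
      (_ : ∃ z ∈ M, ρ z = 1 + a)
      (_ : ∀ (b : M) (c : K), (∀ u ∈ U, b * u * b⁻¹ ∈ U) → σ (b : G) w = c • w → ad ρ (b : G) a = c • a)
      (y : G) (_ : y ∈ H) (_ : LinearMap.trace K W (σ y) ∈ F) (_ : TrGen F σ y),
      ∀ t ∈ F, ∃ m ∈ M, ρ m = 1 + t • a) :
    ∃ C q₀ : ℕ, ∀ (p d q : ℕ) (K : Type u) [Field K] (F : Subfield K) (G : Type w) [Group G]
    (V W : Type u) [AddCommGroup V] [Module K V] [AddCommGroup W] [Module K W] (ρ : G →* Module.End K V)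
    (σ : G →* Module.End K W), q₀ ≤ q → Fam p n d q F ρ σ → Row.{u, w} C q G := by
  obtain ⟨B, hB⟩ := str
  obtain ⟨C, hC1, hC2, hC3, hC4⟩ : ∃ C : ℕ, B ≤ C ∧ n ^ 2 * n ^ 2 ≤ C ∧ n ^ 2 ≤ C ∧ 4 ≤ C :=
    ⟨B + n ^ 2 * n ^ 2 + n ^ 2 + 4, by omega, by omega, by omega, by omega⟩
  refine ⟨C, 2 * C + 2, ?_⟩
  intro p d q K _ F G _ V W _ _ _ _ ρ σ hq hf
  haveI : Fact p.Prime := ⟨hf.prime⟩
  haveI : CharP K p := hf.char
  haveI : IsAlgClosed K := hf.closed
  haveI : Finite F := hf.finF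
  haveI : Finite G := hf.finG
  haveI : FiniteDimensional K V := hf.fdV
  haveI : FiniteDimensional K W := hf.fdW
  haveI : Nontrivial V := hf.irr.1
  obtain ⟨ι, x, hx, hx1, hx2⟩ := hf.root
  refine ⟨K, ‹Field K›, F, ι, x, Module.End K (Module.End K V), W, W, inferInstance, inferInstance, inferInstance,
    inferInstance, inferInstance, inferInstance, ad (ad ρ), σ, σ, hf.finF, hf.cardF, hx, inferInstance,
    inferInstance, inferInstance, ?_, hf.dimW.trans hC3, hf.dimW.trans hC3, ?_, polyDeg_mono hx2 (by omega),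
    polyDeg_mono hx2 (by omega), hf.trn, hf.trn, ?_, ?_⟩
  · rw [Module.finrank_linearMap, Module.finrank_linearMap, hf.dimV]
    calc n * n * (n * n) = n ^ 2 * n ^ 2 := by rw [pow_two]
      _ ≤ C := hC2
  · exact polyDeg_mono (H886.BR.polyDeg_ad hx (H886.BR.polyDeg_ad hx hx1)) (by omega)
  · intro k hk hkC
    obtain ⟨g, hg⟩ := hf.pw k hk (by omega)
    exact ⟨g, fun h => hg (ad_eq_one_of_ad_ad h)⟩
  intro H hH y hy hyk htr _
  obtain ⟨M, hMH, hn, hD, hirr, hperf, hsim, _, hlie, hcen⟩ := hB p hf.prime K hf.locfin G V ρ hf.dimV hf.two_le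
    hf.inj hf.qs hf.irr hf.tprim H hH y hy (fun k hk hkB ⟨c, hc⟩ => hyk k hk (hkB.trans hC1)
      (ad_ad_eq_one_of_scalar hc))
  -- the Curtis--Richen data
  have hpz : ¬ p ∣ Nat.card (Subgroup.center M) := by
    refine not_dvd_center (K := K) (V := V) (τ := ρ.comp M.subtype) (fun a b hab => Subtype.ext (hf.inj hab))
      fun z hz => (hcen z).1 hz
  obtain ⟨U, hU⟩ := crg p M hperf hpz hsim hlie
  have hσirr : Irr σ M := hf.inh M hD
  have hσz : ∀ z : M, z ∈ Subgroup.center M → σ z = 1 := by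
    intro z hz
    obtain ⟨c, hc⟩ := (hcen z).1 hz
    exact hf.cen z c hc
  have hirr' : Irr (σ.comp M.subtype) ⊤ :=
    ⟨hσirr.1, fun L hL => hσirr.2 L fun h hh v hv => hL ⟨h, hh⟩ trivial v hv⟩
  obtain ⟨w, hw, hwU⟩ := hU.one K W (σ.comp M.subtype) hirr' hσz
  have hwU' : ∀ v : W, (∀ u ∈ U.map M.subtype, σ u v = v) ↔ ∃ c : K, v = c • w := by
    intro v
    rw [← hwU v]
    constructor
    · intro h u hu
      exact h _ ⟨u, hu, rfl⟩
    · rintro h _ ⟨u, hu, rfl⟩
      exact h u hu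
  obtain ⟨z, hzU, a, ha0, haa, hza, hab, hS⟩ := hf.ext M (U.map M.subtype) (Subgroup.map_subtype_le U)
    (hU.isP.map M.subtype) (fun h => hU.ne ((Subgroup.map_eq_bot_iff_of_injective U M.subtype_injective).1 h))
    hD w hw hwU'
  have hfull : ∀ t ∈ F, ∃ m ∈ M, ρ m = 1 + t • a := by
    refine root_full p K hf.locfin F G V ρ W σ H M hMH hn U hU hσirr hσz w hw ?_
      (fun h _ => det_eq_one hf.qs.perf σ h) a haa ⟨z, Subgroup.map_subtype_le U hzU, hza⟩ ?_ y hy (hf.trF y) htr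
    · intro u hu
      exact (hwU w).2 ⟨1, (one_smul K w).symm⟩ u hu
    · intro b c hb hc
      refine hab b b.2 ?_ c hc
      rintro _ ⟨u, hu, rfl⟩
      exact ⟨b * u * b⁻¹, hb u hu, rfl⟩
  have hcard := card_of_root K F G V ρ M M (fun h hh m hm => M.mul_mem (M.mul_mem hh hm) (M.inv_mem hh)) hD a
    hfull d hS
  have hM : M = ⊤ := by
    by_contra hne
    have h1 := hf.count M hne
    rw [← hf.cardF] at h1
    omega
  rw [hM] at hMH
  exact top_le_iff.1 hMH

end Cfsg.Agent.H177.BR
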